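import Mathlib
import Groth.Agent.Lib.Helper13.DRingDescent2

/-! # Jointly faithful flat families, and their polynomial extensions (helper2, for helper28) -/

set_option autoImplicit false
universe u
open Groth.Agent.Lib.Helper13.DR
open TensorProduct
attribute [local instance] MvPolynomial.algebraMvPolynomial

namespace Groth.Agent.Lib.Lead.Req.JointPoly

/-- A flat, jointly Spec-surjective family of `R`-algebras detects zero modules (tensor form). -/
theorem subsingleton_of_forall_subsingleton_tensor (R : Type u) [CommRing R] {ι : Type*}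
    (S : ι → Type u) [∀ i, CommRing (S i)] [∀ i, Algebra R (S i)] [∀ i, Module.Flat R (S i)]
    (hsurj : ∀ p : PrimeSpectrum R, ∃ (i : ι) (q : PrimeSpectrum (S i)),
      PrimeSpectrum.comap (algebraMap R (S i)) q = p)
    (M : Type*) [AddCommGroup M] [Module R M] (h : ∀ i, Subsingleton (S i ⊗[R] M)) :
    Subsingleton M := by
  by_contra hM
  rw [not_subsingleton_iff_nontrivial] at hM
  obtain ⟨x, hx⟩ := exists_ne (0 : M)
  let g : R →ₗ[R] M := LinearMap.toSpanSingleton R M x
  let I : Ideal R := LinearMap.ker g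
  have hI : I ≠ ⊤ := by
    intro h1
    have h2 : (1 : R) ∈ I := by rw [h1]; trivial
    have h3 : g 1 = 0 := h2
    simp [g] at h3
    exact hx h3
  obtain ⟨p, hp, hIp⟩ := Ideal.exists_le_maximal I hI
  obtain ⟨i, q, hq⟩ := hsurj ⟨p, hp.isPrime⟩
  let g' : (R ⧸ I) →ₗ[R] M := Submodule.liftQ I g le_rfl
  have hg' : Function.Injective g' := by
    rw [← LinearMap.ker_eq_bot]
    exact Submodule.ker_liftQ_eq_bot _ _ _ le_rfl
  have hinj := Module.Flat.lTensor_preserves_injective_linearMap (M := S i) g' hg'
  haveI := h i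
  have hsub : Subsingleton (S i ⊗[R] (R ⧸ I)) := hinj.subsingleton
  have hIq : ∀ a ∈ I, (Algebra.ofId R (S i ⧸ q.asIdeal)) a = 0 := by
    intro a ha
    have hap : a ∈ p := hIp ha
    have h1 : (PrimeSpectrum.comap (algebraMap R (S i)) q).asIdeal = p := by rw [hq]
    rw [PrimeSpectrum.comap_asIdeal] at h1
    rw [← h1] at hap
    have h2 : algebraMap R (S i) a ∈ q.asIdeal := hap
    show algebraMap R (S i ⧸ q.asIdeal) a = 0
    rw [IsScalarTower.algebraMap_apply R (S i) (S i ⧸ q.asIdeal)]
    exact Ideal.Quotient.eq_zero_iff_mem.2 h2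
  let φ : S i ⊗[R] (R ⧸ I) →ₐ[R] (S i ⧸ q.asIdeal) :=
    Algebra.TensorProduct.productMap (Ideal.Quotient.mkₐ R q.asIdeal)
      (Ideal.Quotient.liftₐ I (Algebra.ofId R (S i ⧸ q.asIdeal)) hIq)
  have h10 : (1 : S i ⧸ q.asIdeal) = 0 := by
    rw [← map_one φ, ← map_zero φ]
    exact congrArg φ (Subsingleton.elim _ _)
  have : Nontrivial (S i ⧸ q.asIdeal) := Ideal.Quotient.nontrivial_iff.2 q.isPrime.ne_top
  exact one_ne_zero h10

/-- A finite family detecting zero modules detects finite modules (tensor form). -/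
theorem finite_of_forall_finite_tensor (R : Type u) [CommRing R] {ι : Type*} [Finite ι]
    (S : ι → Type u) [∀ i, CommRing (S i)] [∀ i, Algebra R (S i)]
    (hA : ∀ (N : Type u) [AddCommGroup N] [Module R N],
      (∀ i, Subsingleton (S i ⊗[R] N)) → Subsingleton N)
    (M : Type u) [AddCommGroup M] [Module R M] (h : ∀ i, Module.Finite (S i) (S i ⊗[R] M)) :
    Module.Finite R M := by
  have key : ∀ i, ∃ N : Submodule R M, N.FG ∧
      Function.Surjective (LinearMap.lTensor (S i) N.subtype) := by
    intro i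
    obtain ⟨n, s, hs⟩ := Module.Finite.exists_fin (R := S i) (M := S i ⊗[R] M)
    choose k t m hm using fun a : Fin n ↦ TensorProduct.exists_sum_tmul_eq (s a)
    refine ⟨Submodule.span R (Set.range (fun p : Σ a, Fin (k a) => m p.1 p.2)),
      Submodule.fg_span (Set.finite_range _), ?_⟩
    set N := Submodule.span R (Set.range (fun p : Σ a, Fin (k a) => m p.1 p.2)) with hN
    have hmem : ∀ a j, m a j ∈ N := fun a j => Submodule.subset_span ⟨⟨a, j⟩, rfl⟩
    have hrange : LinearMap.range (AlgebraTensorModule.lTensor (S i) (S i) N.subtype) = ⊤ := by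
      rw [eq_top_iff, ← hs, Submodule.span_le, Set.range_subset_iff]
      intro a
      refine ⟨∑ j : Fin (k a), t a j ⊗ₜ[R] (⟨m a j, hmem a j⟩ : N), ?_⟩
      rw [map_sum, hm a]
      rfl
    intro y
    have hy : y ∈ LinearMap.range (AlgebraTensorModule.lTensor (S i) (S i) N.subtype) := by
      rw [hrange]; trivial
    obtain ⟨z, hz⟩ := hy
    exact ⟨z, hz⟩
  choose N hNfg hNsurj using key
  have hfg : (⨆ i, N i).FG := Submodule.fg_iSup N hNfg
  have hsub : Subsingleton (M ⧸ (⨆ i, N i)) := by
    apply hA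
    intro i
    refine ⟨fun a b => ?_⟩
    have hzero : ∀ c : S i ⊗[R] (M ⧸ (⨆ i, N i)), c = 0 := by
      intro c
      obtain ⟨y, rfl⟩ := LinearMap.lTensor_surjective (S i) (Submodule.mkQ_surjective (⨆ i, N i)) c
      obtain ⟨z, rfl⟩ := hNsurj i y
      rw [← LinearMap.comp_apply, ← LinearMap.lTensor_comp]
      have h0 : (⨆ i, N i).mkQ ∘ₗ (N i).subtype = 0 := by
        ext w
        simp only [LinearMap.comp_apply, Submodule.subtype_apply, Submodule.mkQ_apply,
          LinearMap.zero_apply, Submodule.Quotient.mk_eq_zero]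
        exact (le_iSup N i) w.2
      rw [h0, LinearMap.lTensor_zero, LinearMap.zero_apply]
    rw [hzero a, hzero b]
  rw [Submodule.Quotient.subsingleton_iff] at hsub
  rw [Module.finite_def, ← hsub]
  exact hfg

theorem jointly_mvPolynomial (B : Type u) [CommRing B] {r : ℕ} (B' : Fin r → Type u)
    [∀ j, CommRing (B' j)] [∀ j, Algebra B (B' j)] [∀ j, Module.Flat B (B' j)]
    (hsurj : ∀ p : PrimeSpectrum B, ∃ (j : Fin r) (q : PrimeSpectrum (B' j)),
      PrimeSpectrum.comap (algebraMap B (B' j)) q = p) (k : ℕ) :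
    JointlyFaithful (MvPolynomial (Fin k) B) (fun j => MvPolynomial (Fin k) (B' j)) ∧
      JointlyDetectsFinite (MvPolynomial (Fin k) B) (fun j => MvPolynomial (Fin k) (B' j)) := by
  have hA : ∀ (N : Type u) [AddCommGroup N] [Module (MvPolynomial (Fin k) B) N],
      (∀ j, Subsingleton (MvPolynomial (Fin k) (B' j) ⊗[MvPolynomial (Fin k) B] N)) →
        Subsingleton N := by
    intro N _ _ hN
    let _ : Module B N := Module.compHom N (algebraMap B (MvPolynomial (Fin k) B))
    have : IsScalarTower B (MvPolynomial (Fin k) B) N :=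
      IsScalarTower.of_compHom B (MvPolynomial (Fin k) B) N
    refine subsingleton_of_forall_subsingleton_tensor B B' hsurj N (fun j => ?_)
    have e := Algebra.IsPushout.cancelBaseChange B (B' j) (MvPolynomial (Fin k) B)
      (MvPolynomial (Fin k) (B' j)) N
    haveI := hN j
    exact e.symm.toEquiv.subsingleton
  constructor
  · intro M hM
    rw [isZero_iff_subsingleton]
    exact hA M (fun j => subsingleton_tensor_of_isZero_extendScalars _ _ M (hM j))
  · intro M hM
    exact finite_of_forall_finite_tensor _ _ hA M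
      (fun j => finite_tensor_of_finite_extendScalars _ _ M (hM j))

end Groth.Agent.Lib.Lead.Req.JointPoly
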